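import Cfsg.Agent.O8Two50.Lifts
import Cfsg.Agent.SpMult50.SixBound

/-!
A stem extension of `D4(2)` has kernel of order at most four (helper50).
-/

set_option autoImplicit false

namespace Cfsg.Agent.O8Two50

open Cfsg Cfsg.Lie Cfsg.Agent.ChevCore Cfsg.Agent.ChevGroup
open Cfsg.Agent.KnownSimple.Steinberg Cfsg.Agent.KnownSimple.Steinberg.Gen
open scoped commutatorElement

universe u v

variable {F : Type u} [Field F] [Fintype F] {Γ : Type v} [Group Γ]

/-- Over two elements a stem extension with lifts satisfying all relations is trivial. -/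
theorem ker_eq_bot_of_lifts (hF : Fintype.card F = 2) (σ : Γ →* ↥(chevD4.group F))
    (hσ : IsStemExtension σ) (E : CExt chevD4 F Γ) (hE : E.π = (chevD4.group F).subtype.comp σ)
    (hR : ∃ R : Pre chevD4 F Γ, R.π = E.π ∧ R.AllRel) : σ.ker = ⊥ := by
  classical
  have hS := packD4.dok
  have hD := hS.good
  obtain ⟨hsurj, hcen, hcom⟩ := hσ
  obtain ⟨R₀, hR₀, hrel⟩ := hR
  obtain ⟨T⟩ := packD4.model
  let R := R₀.toBase hS hrel packD4.cert
  set K := Subgroup.closure {g | ∃ r t, r < chevD4.nroots ∧ g = R.y r t} with hK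
  have hRπ : R.π = (chevD4.group F).subtype.comp σ := hR₀.trans hE
  have hEσ : ∀ g, σ g = 1 → E.π g = 1 := fun g h => by rw [hE, MonoidHom.comp_apply, h, map_one]
  have hKmap : K.map σ = ⊤ := by
    refine Subgroup.map_injective (Subgroup.subtype_injective (chevD4.group F)) ?_
    rw [Subgroup.map_map, ← hRπ, hK, MonoidHom.map_closure, ← MonoidHom.range_eq_map,
      Subgroup.range_subtype]
    conv_rhs => rw [group_eq_closure_xg hD]
    congr 1
    ext g
    constructor
    · rintro ⟨_, ⟨r, t, hr, rfl⟩, rfl⟩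
      exact ⟨r, t, hr, R.π_y r hr t⟩
    · rintro ⟨r, t, hr, rfl⟩
      exact ⟨_, ⟨r, t, hr, rfl⟩, R.π_y r hr t⟩
  have htop : K = ⊤ := by
    have hdec : ∀ g : Γ, ∃ a ∈ K, ∃ z ∈ σ.ker, g = a * z := by
      intro g
      obtain ⟨a, ha, e⟩ : σ g ∈ K.map σ := hKmap ▸ Subgroup.mem_top _
      exact ⟨a, ha, a⁻¹ * g, by simp [MonoidHom.mem_ker, e], by group⟩
    have hKc : commutator Γ ≤ K := by
      rw [commutator_def, Subgroup.commutator_le]
      intro g _ g' _
      obtain ⟨a, ha, z, hz, rfl⟩ := hdec g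
      obtain ⟨b, hb, w, hw, rfl⟩ := hdec g'
      rw [E.comm_congr (v' := a) (w' := b) (by rw [map_mul, hEσ z hz, mul_one])
        (by rw [map_mul, hEσ w hw, mul_one])]
      exact mul_mem (mul_mem (mul_mem ha hb) (inv_mem ha)) (inv_mem hb)
    rw [eq_top_iff]
    intro g _
    obtain ⟨a, ha, z, hz, rfl⟩ := hdec g
    exact mul_mem ha (hKc (hcom hz))
  have hN : NbrOK chevD4 := nbrOK_of_mem (by simp)
  have hmul := R.hh_mul hS T htop hN
  have hsub : Subsingleton Fˣ := Fintype.card_le_one_iff_subsingleton.1 (by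
    rw [Fintype.card_units, hF])
  rw [eq_bot_iff]
  intro g hg
  have hg' : g ∈ R.π.ker := by
    rw [MonoidHom.mem_ker, hRπ, MonoidHom.comp_apply, MonoidHom.mem_ker.1 hg, map_one]
  obtain ⟨c, rfl⟩ := R.H_le_range hS T htop hmul (R.ker_le_H hS T htop hg')
  rw [Subgroup.mem_bot, show c = 1 from funext fun i => Subsingleton.elim _ _, map_one]

theorem base_facts : ∀ p ∈ baseTab, p.1 < chevD4.nroots ∧ p.2 < chevD4.nroots ∧
    p.2 ≠ chevD4.neg p.1 ∧ chevD4.commTerms p.1 p.2 = [] := by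
  decide +kernel

/-- **The bound for `D4(2)`.** -/
theorem card_ker_le_four (hF : Fintype.card F = 2) [Finite Γ] (σ : Γ →* ↥(chevD4.group F))
    (hσ : IsStemExtension σ) : Nat.card σ.ker ≤ 4 := by
  classical
  have hC : CommGood chevD4 := packD4.comm
  have hD := hC.toGood
  obtain ⟨h2, hall⟩ := two_facts hF
  have hker : ((chevD4.group F).subtype.comp σ).ker = σ.ker :=
    MonoidHom.ker_comp_of_injective σ _ (Subgroup.subtype_injective _)
  let E : CExt chevD4 F Γ :=
    { π := (chevD4.group F).subtype.comp σ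
      central := hker.le.trans hσ.2.1
      ℓ := fun r t => if hr : r < chevD4.nroots then
        Function.surjInv hσ.1 ⟨xg chevD4 F r t, xg_mem_group hD hr t⟩ else 1
      π_ℓ := fun r hr t => by
        rw [MonoidHom.comp_apply, dif_pos hr, Function.surjInv_eq hσ.1]
        rfl }
  let c : ℕ × ℕ → Γ := fun p => ⁅E.ℓ p.1 1, E.ℓ p.2 1⁆
  have hc : ∀ p ∈ baseTab, c p ∈ σ.ker ∧ c p * c p = 1 := by
    intro p hp
    obtain ⟨h1, h2', hn, he⟩ := base_facts p hp
    have hG := commute_xg (F := F) hC h1 h2' (Or.inr ⟨hn, he⟩)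
    refine ⟨?_, ?_⟩
    · rw [← hker, MonoidHom.mem_ker]
      show E.π (c p) = 1
      rw [map_commutatorElement, E.π_ℓ _ h1, E.π_ℓ _ h2', commutatorElement_eq_one_iff_commute]
      exact hG 1 1
    · have h := bracket_add_left (E := E) h1 h2' hG hD 1 1 1
      rw [one_add_one_eq_two, h2] at h
      refine h.symm.trans (commutatorElement_eq_one_iff_commute.2 ?_)
      exact E.π_eq_zero_commute h1 hD (E.π_ℓ _ h1 0) _
  have hc0 := hc (0, 5) (by simp [baseTab])
  have hc1 := hc (0, 10) (by simp [baseTab])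
  set a := c (0, 5)
  set b := c (0, 10)
  have hab : Commute a b := (Subgroup.mem_center_iff.1 (hσ.2.1 hc1.1) a)
  set K := Subgroup.zpowers a ⊔ Subgroup.zpowers b with hKdef
  have hK : K ≤ σ.ker := sup_le (Subgroup.zpowers_le.2 hc0.1) (Subgroup.zpowers_le.2 hc1.1)
  have : K.Normal := by
    refine ⟨fun x hx g => ?_⟩
    rwa [Subgroup.mem_center_iff.1 (hσ.2.1 (hK hx)) g, mul_inv_cancel_right]
  have hcard : Nat.card K ≤ 4 := by
    have hcomm : ∀ (x : Subgroup.zpowers a) (y : Subgroup.zpowers b),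
        Commute (x : Γ) (y : Γ) := fun x y =>
      (Subgroup.mem_center_iff.1 (hσ.2.1 (Subgroup.zpowers_le.2 hc1.1 y.2)) (x : Γ))
    let f := MonoidHom.noncommCoprod (Subgroup.zpowers a).subtype (Subgroup.zpowers b).subtype hcomm
    have hr : K ≤ f.range :=
      sup_le (fun x hx => ⟨(⟨x, hx⟩, 1), mul_one x⟩) (fun x hx => ⟨(1, ⟨x, hx⟩), one_mul x⟩)
    have ha2 : orderOf a ≤ 2 :=
      Nat.le_of_dvd two_pos (orderOf_dvd_of_pow_eq_one (by rw [pow_two]; exact hc0.2))
    have hb2 : orderOf b ≤ 2 :=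
      Nat.le_of_dvd two_pos (orderOf_dvd_of_pow_eq_one (by rw [pow_two]; exact hc1.2))
    calc Nat.card K ≤ Nat.card f.range := Subgroup.card_le_of_le hr
      _ ≤ Nat.card (Subgroup.zpowers a × Subgroup.zpowers b) :=
        Nat.card_le_card_of_surjective f.rangeRestrict f.rangeRestrict_surjective
      _ ≤ 4 := by
        rw [Nat.card_prod, Nat.card_zpowers, Nat.card_zpowers]
        exact Nat.mul_le_mul ha2 hb2
  let τ := QuotientGroup.lift K σ hK
  have hτ : IsStemExtension τ := SpMult50.isStemExtension_lift hσ hK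
  have hkerτ : ((chevD4.group F).subtype.comp τ).ker = τ.ker :=
    MonoidHom.ker_comp_of_injective τ _ (Subgroup.subtype_injective _)
  let E' : CExt chevD4 F (Γ ⧸ K) :=
    { π := (chevD4.group F).subtype.comp τ
      central := hkerτ.le.trans hτ.2.1
      ℓ := fun r t => (E.ℓ r t : Γ ⧸ K)
      π_ℓ := fun r hr t => E.π_ℓ r hr t }
  have hbot : τ.ker = ⊥ := ker_eq_bot_of_lifts hF τ hτ E' rfl (exists_pre_two hF E' fun p hp => by
    rw [← commutatorElement_eq_one_iff_commute]
    show ⁅QuotientGroup.mk' K (E.ℓ p.1 1), QuotientGroup.mk' K (E.ℓ p.2 1)⁆ = 1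
    rw [← map_commutatorElement, QuotientGroup.mk'_apply, QuotientGroup.eq_one_iff]
    simp only [baseTab, List.mem_cons, List.not_mem_nil, or_false] at hp
    rcases hp with rfl | rfl
    · exact Subgroup.mem_sup_left (Subgroup.mem_zpowers a)
    · exact Subgroup.mem_sup_right (Subgroup.mem_zpowers b))
  have hle : σ.ker ≤ K := fun g hg => by
    rw [← QuotientGroup.eq_one_iff]
    have : (g : Γ ⧸ K) ∈ τ.ker := hg
    rwa [hbot, Subgroup.mem_bot] at this
  exact (Subgroup.card_le_of_le hle).trans hcard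

end Cfsg.Agent.O8Two50
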