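import Cfsg.Agent.O8Two50.CoverMat
import Cfsg.Agent.O8Two50.Bound
import Cfsg.Agent.Lib.Schur.Perfect

/-!
A stem extension of `D4(2)` whose kernel is a four-group: the Weyl group of type `E8` twisted by
triality (helper50).
-/

set_option autoImplicit false

namespace Cfsg.Agent.O8Two50

open Matrix Cfsg Cfsg.Lie Cfsg.Agent.ChevCore Cfsg.Agent.ChevGroup
open Cfsg.Agent.KnownSimple.Steinberg Cfsg.Agent.KnownSimple.Steinberg.Gen
open scoped commutatorElement

universe u

/-- The units of the matrix ring. -/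
abbrev UM : Type := (Matrix (Fin 8) (Fin 8) (ZMod 3))ˣ

/-- A lifted root element. -/
def unitY (j : Fin 2) (r : Fin 24) : UM :=
  ⟨mtx j r, mtx j r, mtx_mul_self j r, mtx_mul_self j r⟩

/-- The two projections. -/
def prU (j : Fin 2) : UM × UM →* UM := if j = 0 then MonoidHom.fst _ _ else MonoidHom.snd _ _

variable {F : Type u} [Field F] [Fintype F] (hF : Fintype.card F = 2)

/-- The pairs compatible on the lines, up to sign. -/
noncomputable def compat : Subgroup ((UM × UM) × ↥(chevD4.group F)) where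
  carrier := {p | ∀ (j : Fin 2) (i : Fin 120), ∃ c : ZMod 3, (c = 1 ∨ c = -1) ∧
    (prU j p.1).val *ᵥ lineVec i = c • lineVec (lineAct hF j p.2 i)}
  one_mem' := fun j i => ⟨1, Or.inl rfl, by simp⟩
  mul_mem' := by
    intro p r hp hr j i
    obtain ⟨c, hc, h⟩ := hr j i
    obtain ⟨d, hd, h'⟩ := hp j (lineAct hF j r.2 i)
    refine ⟨c * d, by rcases hc with rfl | rfl <;> rcases hd with rfl | rfl <;> simp, ?_⟩
    rw [Prod.fst_mul, Prod.snd_mul, map_mul, map_mul, Units.val_mul, ← Matrix.mulVec_mulVec, h,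
      Matrix.mulVec_smul, h', smul_smul, Equiv.Perm.mul_apply]
  inv_mem' := by
    intro p hp j i
    obtain ⟨c, hc, h⟩ := hp j ((lineAct hF j p.2)⁻¹ i)
    refine ⟨c, hc, ?_⟩
    have hcc : c * c = 1 := by rcases hc with rfl | rfl <;> simp
    rw [← Equiv.Perm.mul_apply, mul_inv_cancel, Equiv.Perm.one_apply] at h
    have h1 := congrArg ((prU j p.1)⁻¹.val *ᵥ ·) h
    simp only [Matrix.mulVec_mulVec, Units.inv_mul, Matrix.one_mulVec, Matrix.mulVec_smul] at h1
    rw [Prod.fst_inv, Prod.snd_inv, map_inv, map_inv, h1, smul_smul, hcc, one_smul]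

/-- The generators. -/
noncomputable def gen (F : Type u) [Field F] (r : Fin 24) :
    (UM × UM) × ↥(chevD4.group F) :=
  ((unitY 0 r, unitY 1 r), xroot F r)

theorem gen_mem (r : Fin 24) : gen F r ∈ compat hF := by
  intro j i
  obtain ⟨c, hc, h⟩ := mtx_line j r i
  refine ⟨c, hc, ?_⟩
  rw [show (gen F r).2 = xroot F r from rfl, lineAct_xroot]
  refine Eq.trans ?_ h
  fin_cases j <;> rfl

/-- The covering group before taking the derived subgroup. -/
noncomputable def cov0 (F : Type u) [Field F] : Subgroup ((UM × UM) × ↥(chevD4.group F)) :=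
  Subgroup.closure (Set.range (gen F))

include hF in
theorem cov0_le : cov0 F ≤ compat hF :=
  (Subgroup.closure_le _).2 fun _ ⟨r, hr⟩ => hr ▸ gen_mem hF r

/-- The projection. -/
noncomputable def covMap (F : Type u) [Field F] : cov0 F →* ↥(chevD4.group F) :=
  (MonoidHom.snd _ _).comp (cov0 F).subtype

include hF in
theorem covMap_surjective : Function.Surjective (covMap F) := by
  have hD := packD4.comm.toGood
  obtain ⟨-, hall⟩ := two_facts hF
  intro x
  suffices h : (x : GL chevD4.Idx F) ∈ ((chevD4.group F).subtype.comp (covMap F)).range by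
    obtain ⟨y, hy⟩ := h
    exact ⟨y, Subtype.ext hy⟩
  have hx := (group_eq_closure_xg hD).le x.2
  refine (Subgroup.closure_le _).2 ?_ hx
  rintro g ⟨r, t, hr, rfl⟩
  rcases hall t with rfl | rfl
  · exact ⟨1, by rw [map_one, hD.xg_zero]⟩
  · exact ⟨⟨gen F ⟨r, hr⟩, Subgroup.subset_closure ⟨_, rfl⟩⟩, rfl⟩

theorem eq_scalar_of_lines (g : Matrix (Fin 8) (Fin 8) (ZMod 3))
    (h : ∀ i, ∃ c : ZMod 3, g *ᵥ lineVec i = c • lineVec i) :
    ∃ d : ZMod 3, g = d • 1 := by
  choose c hc using h
  have hdiag : ∀ a k : Fin 8, g a k = if a = k then c (Fin.castLE (by norm_num) k) else 0 := by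
    intro a k
    have h1 := congrFun (hc (Fin.castLE (by norm_num) k)) a
    rw [lineVec_coord] at h1
    simp only [Matrix.mulVec_neg, Pi.neg_apply, Matrix.mulVec_single_one, Pi.smul_apply,
      smul_eq_mul, mul_neg, neg_inj, Matrix.col_apply] at h1
    rw [h1, Pi.single_apply, mul_ite, mul_one, mul_zero]
  refine ⟨c (Fin.castLE (by norm_num) (0 : Fin 8)), ?_⟩
  have hk : ∀ k : Fin 8, c (Fin.castLE (by norm_num) k) = c (Fin.castLE (by norm_num) (0 : Fin 8)) := by
    intro k
    obtain ⟨i, h0, hk⟩ := exists_line_pair k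
    have e : ∀ a : Fin 8, c (Fin.castLE (by norm_num) a) * lineVec i a = c i * lineVec i a := fun a => by
      have h1 := congrFun (hc i) a
      simp only [Matrix.mulVec, dotProduct, Pi.smul_apply, smul_eq_mul] at h1
      rw [Finset.sum_eq_single a (fun b _ hb => by rw [hdiag, if_neg (Ne.symm hb), zero_mul])
        (fun h => absurd (Finset.mem_univ a) h), hdiag, if_pos rfl] at h1
      exact h1
    have hf : Fact (Nat.Prime 3) := ⟨Nat.prime_three⟩
    rw [mul_right_cancel₀ hk (e k), ← mul_right_cancel₀ h0 (e 0)]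
  ext a b
  rw [hdiag, Matrix.smul_apply, Matrix.one_apply, smul_eq_mul, mul_ite, mul_one, mul_zero]
  split
  · exact hk b
  · rfl

include hF in
theorem cov_ker_central : (covMap F).ker ≤ Subgroup.center (cov0 F) := by
  rintro ⟨p, hp⟩ hker
  have hp2 : p.2 = 1 := hker
  have hcompat := cov0_le hF hp
  have hU : ∀ (j : Fin 2) (y : UM), Commute (prU j p.1) y := by
    intro j y
    obtain ⟨d, hd⟩ := eq_scalar_of_lines (prU j p.1).val fun i => by
      obtain ⟨c, -, h⟩ := hcompat j i
      rw [hp2, map_one, Equiv.Perm.one_apply] at h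
      exact ⟨c, h⟩
    refine Units.ext ?_
    rw [Units.val_mul, Units.val_mul, hd, smul_mul_assoc, one_mul, mul_smul_comm, mul_one]
  rw [Subgroup.mem_center_iff]
  rintro ⟨⟨⟨y0, y1⟩, z⟩, hy⟩
  refine Subtype.ext (Prod.ext (Prod.ext ?_ ?_) ?_)
  · exact (hU 0 y0).eq.symm
  · exact (hU 1 y1).eq.symm
  · show z * p.2 = p.2 * z
    rw [hp2, mul_one, one_mul]

/-- The cover. -/
noncomputable def cov (F : Type u) [Field F] : Subgroup (cov0 F) := commutator (cov0 F)

/-- The covering map. -/
noncomputable def covPi (F : Type u) [Field F] : cov F →* ↥(chevD4.group F) :=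
  (covMap F).comp (cov F).subtype

include hF in
theorem isPerfect_D4 : commutator ↥(chevD4.group F) = ⊤ := by
  have h := packD4.perfect (stData (F := F) packD4.comm) (fun h => nomatch h)
  have h2 := congrArg (Subgroup.map (stEquiv hF).toMonoidHom) h
  rwa [_root_.commutator_def, Subgroup.map_commutator,
    Subgroup.map_top_of_surjective (stEquiv hF).toMonoidHom (stEquiv hF).surjective, ← _root_.commutator_def] at h2

include hF in
theorem covPi_surjective : Function.Surjective (covPi F) := by
  rw [← MonoidHom.range_eq_top, covPi, MonoidHom.range_eq_map, ← Subgroup.map_map,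
    ← MonoidHom.range_eq_map, Subgroup.range_subtype, cov, _root_.commutator_def,
    Subgroup.map_commutator, Subgroup.map_top_of_surjective _ (covMap_surjective hF),
    ← _root_.commutator_def, isPerfect_D4 hF]

include hF in
theorem covPi_stem : Cfsg.IsStemExtension (covPi F) := by
  refine ⟨covPi_surjective hF, fun x hx => ?_, fun x _ => ?_⟩
  · rw [Subgroup.mem_center_iff]
    intro y
    exact Subtype.ext (Subgroup.mem_center_iff.1 (cov_ker_central hF
      (show (x : cov0 F) ∈ (covMap F).ker from hx)) y)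
  · have hle : cov F ≤ (commutator (cov F)).map (cov F).subtype := by
      rw [Subgroup.map_subtype_commutator, cov, _root_.commutator_def, Subgroup.commutator_le]
      intro a _ b _
      have key : ∀ a : cov0 F, ∃ a' ∈ commutator (cov0 F), ∃ z ∈ Subgroup.center (cov0 F),
          a = a' * z := by
        intro a
        obtain ⟨a', ha'⟩ := covPi_surjective hF (covMap F a)
        refine ⟨a', a'.2, (a' : cov0 F)⁻¹ * a, cov_ker_central hF ?_, by group⟩
        have ha'' : covMap F (a' : cov0 F) = covMap F a := ha'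
        rw [MonoidHom.mem_ker, map_mul, map_inv, ha'', inv_mul_cancel]
      obtain ⟨a', ha', z, hz, rfl⟩ := key a
      obtain ⟨b', hb', z', hz', rfl⟩ := key b
      rw [Cfsg.Agent.Schur.commutatorElement_mul_central hz hz']
      exact Subgroup.commutator_mem_commutator ha' hb'
    obtain ⟨y, hy, hyx⟩ := hle x.2
    rwa [Subtype.ext (a1 := y) (a2 := x) hyx] at hy

/-- A lifted root element in the covering group. -/
noncomputable def genC (F : Type u) [Field F] (r : Fin 24) : cov0 F :=
  ⟨gen F r, Subgroup.subset_closure ⟨r, rfl⟩⟩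

theorem xroot_commute {r s : Fin 24} (h : s.val ≠ chevD4.neg r.val)
    (he : chevD4.commTerms r.val s.val = []) : Commute (xroot F r) (xroot F s) :=
  Subtype.ext (commute_xg packD4.comm r.isLt s.isLt (Or.inr ⟨h, he⟩) 1 1).eq

theorem comm_unit_eq_one {A B : UM} (h : A.val * B.val = B.val * A.val) : ⁅A, B⁆ = 1 :=
  commutatorElement_eq_one_iff_commute.2 (Units.ext h)

theorem comm_unit_eq_neg {A B : UM} (h : A.val * B.val = -(B.val * A.val)) : ⁅A, B⁆ = -1 := by
  rw [commutatorElement_def]
  refine Units.ext ?_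
  simp only [Units.val_mul]
  rw [h, neg_mul, neg_mul, Units.mul_inv_cancel_right, Units.mul_inv]
  rfl

include hF in
/-- The kernel is a four-group. -/
theorem covPi_ker_klein [Finite ↥(cov F)] : Nat.card (covPi F).ker = 4 ∧
    ∀ x : (covPi F).ker, x * x = 1 := by
  classical
  have hcm : ∀ r s, ⁅genC F r, genC F s⁆ ∈ cov F := fun r s =>
    Subgroup.commutator_mem_commutator (Subgroup.mem_top _) (Subgroup.mem_top _)
  have hk : ∀ r s : Fin 24, s.val ≠ chevD4.neg r.val → chevD4.commTerms r.val s.val = [] →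
      (⟨⁅genC F r, genC F s⁆, hcm r s⟩ : cov F) ∈ (covPi F).ker := fun r s h he => by
    show covMap F ⁅genC F r, genC F s⁆ = 1
    rw [map_commutatorElement, commutatorElement_eq_one_iff_commute]
    exact xroot_commute h he
  obtain ⟨-, -, n5, e5⟩ := base_facts (0, 5) (by simp [baseTab])
  obtain ⟨-, -, n10, e10⟩ := base_facts (0, 10) (by simp [baseTab])
  obtain ⟨s1, s2, s3, s4⟩ := mtx_signs
  let k1 : (covPi F).ker := ⟨_, hk 0 5 n5 e5⟩
  let k2 : (covPi F).ker := ⟨_, hk 0 10 n10 e10⟩
  let val : (covPi F).ker →* UM × UM :=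
    ((MonoidHom.fst _ _).comp ((cov0 F).subtype.comp (cov F).subtype)).comp (covPi F).ker.subtype
  have v1 : val k1 = (1, -1) :=
    Prod.ext (comm_unit_eq_one (A := unitY 0 0) (B := unitY 0 5) s1)
      (comm_unit_eq_neg (A := unitY 1 0) (B := unitY 1 5) s3)
  have v2 : val k2 = (-1, 1) :=
    Prod.ext (comm_unit_eq_neg (A := unitY 0 0) (B := unitY 0 10) s2)
      (comm_unit_eq_one (A := unitY 1 0) (B := unitY 1 10) s4)
  have hinj : Function.Injective val := by
    intro x y e
    refine Subtype.ext (Subtype.ext (Subtype.ext (Prod.ext e ?_)))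
    exact (MonoidHom.mem_ker.1 x.2).trans (MonoidHom.mem_ker.1 y.2).symm
  have hne : (-1 : UM) ≠ 1 := fun h => by
    have h' : (-1 : ZMod 3) = 1 := by
      simpa [Matrix.neg_apply] using congrArg (fun u : UM => u.val 0 0) h
    exact absurd h' (by decide)
  let f : Fin 4 → (covPi F).ker := ![1, k1, k2, k1 * k2]
  have hv : ∀ i, val (f i) = (![(1, 1), (1, -1), (-1, 1), (-1, -1)] : Fin 4 → UM × UM) i := by
    intro i
    fin_cases i <;> simp [f, v1, v2, Prod.ext_iff]
  have hf : Function.Injective f := by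
    intro a b e
    have e' := congrArg val e
    rw [hv, hv] at e'
    fin_cases a <;> fin_cases b <;> simp_all [Prod.ext_iff, hne.symm]
  have h4 : Nat.card (covPi F).ker = 4 := by
    refine le_antisymm (card_ker_le_four hF _ (covPi_stem hF)) ?_
    simpa using Nat.card_le_card_of_injective f hf
  refine ⟨h4, fun x => ?_⟩
  have := Fintype.ofFinite (covPi F).ker
  have hsurj : Function.Surjective f := ((Fintype.bijective_iff_injective_and_card f).2
    ⟨hf, by rw [Fintype.card_fin, ← Nat.card_eq_fintype_card, h4]⟩).2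
  obtain ⟨i, rfl⟩ := hsurj x
  refine hinj ?_
  rw [map_mul, hv, map_one]
  fin_cases i <;> simp

end Cfsg.Agent.O8Two50
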