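import Cfsg.Agent.O8Two50.Table
import Cfsg.Agent.KnownSimple.Steinberg.Gen.PackD4
import Cfsg.Agent.KnownSimple.Steinberg.Gen.Nbr
import Cfsg.Agent.KnownSimple.Steinberg.Gen.Kernel
import Cfsg.Agent.KnownSimple.Steinberg.Gen.Bound
import Cfsg.Agent.Lib.ChevCore.CertD4Table
import Cfsg.Agent.Lib.ChevCore.PackedD4

/-!
Central extensions of `D4(2)` in which two commutators of lifted root elements vanish split (helper50).
-/

set_option autoImplicit false

namespace Cfsg.Agent.O8Two50

open Cfsg Cfsg.Lie Cfsg.Agent.ChevCore Cfsg.Agent.ChevGroup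
open Cfsg.Agent.KnownSimple.Steinberg Cfsg.Agent.KnownSimple.Steinberg.Gen
open scoped commutatorElement

theorem fullD4 : fullB chevD4 (std chevD4) decTab baseTab derTab = true := by
  rw [← (fast_eq_std chkLinkD4).1]
  decide +kernel

theorem decD4_aux : ∀ c < chevD4.nroots,
    (decTab.getD c (0, 0)).1 < chevD4.nroots ∧ (decTab.getD c (0, 0)).2 < chevD4.nroots ∧
      (decTab.getD c (0, 0)).2 ≠ (decTab.getD c (0, 0)).1 ∧
      (decTab.getD c (0, 0)).2 ≠ chevD4.neg (decTab.getD c (0, 0)).1 ∧
      (chevD4.commTerms (decTab.getD c (0, 0)).1 (decTab.getD c (0, 0)).2).map Prod.fst = [c] := by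
  decide +kernel

universe u v

variable {F : Type u} [Field F] [Fintype F] {Γ : Type v} [Group Γ]

theorem two_facts (hF : Fintype.card F = 2) : (2 : F) = 0 ∧ ∀ x : F, x = 0 ∨ x = 1 := by
  classical
  have hc : CharP F 2 := charP_of_card_eq_prime hF
  refine ⟨by exact_mod_cast CharP.cast_eq_zero F 2, fun x => ?_⟩
  by_contra h
  rw [not_or] at h
  have hsub : ({0, 1, x} : Finset F).card ≤ 2 := hF ▸ Finset.card_le_univ _
  rw [Finset.card_eq_three.2 ⟨0, 1, x, zero_ne_one, Ne.symm h.1, Ne.symm h.2, rfl⟩] at hsub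
  omega

/-- Lifts with all relations, once the two base pairs commute. -/
theorem exists_pre_two (hF : Fintype.card F = 2) (E : CExt chevD4 F Γ)
    (hb : ∀ p ∈ baseTab, Commute (E.ℓ p.1 1) (E.ℓ p.2 1)) :
    ∃ R : Pre chevD4 F Γ, R.π = E.π ∧ R.AllRel := by
  classical
  have hC : CommGood chevD4 := packD4.comm
  have hD := hC.toGood
  obtain ⟨h2, hall⟩ := two_facts hF
  have H := fun {r s : ℕ} (hr : r < chevD4.nroots) (hs : s < chevD4.nroots) (h1 : s ≠ r)
      (hn : s ≠ chevD4.neg r) => of_fullB (E := E) hC h2 hall fullD4 hb hr hs h1 hn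
  have hπ0 : ∀ c < chevD4.nroots, E.π (y0 E decTab c) = xg chevD4 F c 1 := by
    intro c hc
    obtain ⟨ha, hb', h1, hn, e⟩ := decD4_aux c hc
    rcases H ha hb' h1 hn with ⟨he, -⟩ | ⟨c', z, -, -, he, -, hπ⟩
    · rw [he] at e; simp at e
    · rw [he] at e
      simp only [List.map_cons, List.map_nil, List.cons.injEq, and_true] at e
      exact e ▸ hπ
  let R : Pre chevD4 F Γ :=
    { π := E.π
      y := fun r t => if t = 0 then 1 else y0 E decTab r
      π_y := fun r hr t => by
        rcases hall t with rfl | rfl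
        · rw [if_pos rfl, map_one, hD.xg_zero]
        · rw [if_neg one_ne_zero, hπ0 r hr]
      y_add := fun r hr t u => by
        have hsq : y0 E decTab r * y0 E decTab r = 1 := by
          obtain ⟨ha, hb', h1, hn, e⟩ := decD4_aux r hr
          rcases H ha hb' h1 hn with ⟨he, -⟩ | ⟨c, z, -, -, he, e1, -⟩
          · rw [he] at e; simp at e
          · rw [he] at e
            simp only [List.map_cons, List.map_nil, List.cons.injEq, and_true] at e
            subst e
            rw [y0, br] at e1 ⊢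
            rw [← commutatorElement_inv] at e1
            exact mul_eq_one_iff_eq_inv.2 e1.symm
        rcases hall t with rfl | rfl <;> rcases hall u with rfl | rfl
        · simp
        · simp
        · simp
        · rw [if_pos (show (1 : F) + 1 = 0 by rw [one_add_one_eq_two, h2]), if_neg one_ne_zero, hsq] }
  refine ⟨R, rfl, fun r hr s hs h1 hn t u => ?_⟩
  show ⁅R.y s u, R.y r t⁆ = R.word _
  rcases H hr hs h1 hn with ⟨he, hc⟩ | ⟨c, z, hc, hz, he, e1, -⟩
  · rw [ChevalleyDatum.commWord, he, List.map_nil]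
    show ⁅R.y s u, R.y r t⁆ = 1
    rw [commutatorElement_eq_one_iff_commute]
    have e : ∀ v < chevD4.nroots, ∀ a, E.π (R.y v a) = E.π (E.ℓ v a) := fun v hv a => by
      rw [E.π_ℓ v hv]; exact R.π_y v hv a
    exact E.commute_congr (e s hs u) (e r hr t) (commute_all hall hD hr hs hc t u).symm
  · rw [ChevalleyDatum.commWord, he, List.map_cons, List.map_nil]
    show ⁅R.y s u, R.y r t⁆ = R.y c _ * 1
    rw [mul_one]
    have hR0 : ∀ v, R.y v 0 = 1 := fun v => if_pos rfl
    rcases hall t with rfl | rfl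
    · rw [hR0, commutatorElement_one_right]; simp [hR0]
    rcases hall u with rfl | rfl
    · rw [hR0, commutatorElement_one_left]; simp [hR0]
    have hz1 : (z : F) = 1 := by
      rcases hz with rfl | rfl
      · exact Int.cast_one
      · rw [Int.cast_neg, Int.cast_one]; linear_combination -h2
    rw [hz1, show (1 : F) * (- -1) ^ (1 : ℕ) * (-1) ^ (1 : ℕ) = 1 by linear_combination -h2]
    show ⁅if (1 : F) = 0 then (1 : Γ) else y0 E decTab s, if (1 : F) = 0 then (1 : Γ) else y0 E decTab r⁆ =
      if (1 : F) = 0 then (1 : Γ) else y0 E decTab c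
    rw [if_neg one_ne_zero, if_neg one_ne_zero, if_neg one_ne_zero, ← e1, br]
    exact E.comm_congr (by rw [hπ0 s hs, E.π_ℓ s hs]) (by rw [hπ0 r hr, E.π_ℓ r hr])

end Cfsg.Agent.O8Two50
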