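import Cfsg.Agent.O8Two50.CoverTable
import Cfsg.Agent.O8Two50.Lifts
import Mathlib.GroupTheory.Perm.Basic

/-!
`D4(2)` permutes the 120 lines of roots of type `E8`, in two ways (helper50).
-/

set_option autoImplicit false

namespace Cfsg.Agent.O8Two50

open Cfsg Cfsg.Lie Cfsg.Agent.ChevCore Cfsg.Agent.ChevGroup
open Cfsg.Agent.KnownSimple.Steinberg Cfsg.Agent.KnownSimple.Steinberg.Gen

universe u w

/-- The root with index `r` moved by a power of the triality. -/
def tw (j : Fin 2) (r : ℕ) : ℕ := if j = 0 then r else rhoTab.getD r 0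

/-- An entry of a packed permutation. -/
def permN (P i : ℕ) : ℕ := (P >>> (7 * i)) % 128

/-- The image of a line. -/
def pImg (j : Fin 2) (r i : ℕ) : ℕ := permN (permTab.getD (tw j r) 0) i

/-- The relations of the permutations. -/
noncomputable def permB (A : Acc) : Bool :=
  kallUpTo 2 fun j => kallUpTo 24 fun r => forceN r fun r =>
    (kallUpTo 120 fun i => Nat.blt (pImg (Fin.ofNat 2 j) r i) 120 &&
      Nat.beq (pImg (Fin.ofNat 2 j) r (pImg (Fin.ofNat 2 j) r i)) i) &&
    kallUpTo 24 fun s => forceN s fun s => Nat.beq s r || Nat.beq s (A.negf r) ||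
      forceP (commW A r s) fun w =>
        bif w.isEmpty then
          kallUpTo 120 fun i => Nat.beq (pImg (Fin.ofNat 2 j) s (pImg (Fin.ofNat 2 j) r i))
            (pImg (Fin.ofNat 2 j) r (pImg (Fin.ofNat 2 j) s i))
        else oneB chevD4 A r s (headW A r s).1 && kallUpTo 120 fun i =>
          Nat.beq (pImg (Fin.ofNat 2 j) s (pImg (Fin.ofNat 2 j) r
              (pImg (Fin.ofNat 2 j) s (pImg (Fin.ofNat 2 j) r i))))
            (pImg (Fin.ofNat 2 j) (headW A r s).1 i)

theorem permB_D4 : permB (std chevD4) = true := by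
  rw [← (fast_eq_std chkLinkD4).1]
  decide +kernel

theorem perm_facts (j : Fin 2) {r : ℕ} (hr : r < 24) :
    (∀ i < 120, pImg j r i < 120 ∧ pImg j r (pImg j r i) = i) ∧
    ∀ s < 24, s ≠ r → s ≠ chevD4.neg r →
      (chevD4.commTerms r s = [] ∧ ∀ i < 120, pImg j s (pImg j r i) = pImg j r (pImg j s i)) ∨
      ∃ c, oneB chevD4 (std chevD4) r s c = true ∧
        ∀ i < 120, pImg j s (pImg j r (pImg j s (pImg j r i))) = pImg j c i := by
  have h := permB_D4
  simp only [permB, kallUpTo_iff, forceN_eq, forceP_eq, Bool.and_eq_true, Bool.or_eq_true,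
    std_negf, commW_std, Nat.blt_eq, Nat.beq_eq] at h
  have h1 := h j.val j.isLt r hr
  rw [show Fin.ofNat 2 j.val = j from Fin.ext (Nat.mod_eq_of_lt j.isLt)] at h1
  refine ⟨h1.1, fun s hs hsr hsn => ?_⟩
  have h2 := (h1.2 s hs).resolve_left fun e => e.elim hsr hsn
  cases he : (chevD4.commTerms r s).isEmpty with
  | true =>
    rw [he, cond_true] at h2
    simp only [kallUpTo_iff, Nat.beq_eq] at h2
    exact Or.inl ⟨List.isEmpty_iff.1 he, h2⟩
  | false =>
    rw [he, cond_false] at h2
    simp only [Bool.and_eq_true, kallUpTo_iff, Nat.beq_eq] at h2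
    exact Or.inr ⟨_, h2.1, h2.2⟩

/-- A root as a permutation of the lines. -/
def perm (j : Fin 2) (r : Fin 24) : Equiv.Perm (Fin 120) where
  toFun i := ⟨pImg j r i, ((perm_facts j r.isLt).1 i i.isLt).1⟩
  invFun i := ⟨pImg j r i, ((perm_facts j r.isLt).1 i i.isLt).1⟩
  left_inv i := Fin.ext ((perm_facts j r.isLt).1 i i.isLt).2
  right_inv i := Fin.ext ((perm_facts j r.isLt).1 i i.isLt).2

/-- The value of a generator in a group. -/
noncomputable def genVal {F : Type u} [Field F] {H : Type w} [Group H] (g : Fin 24 → H)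
    (p : Fin chevD4.nroots × F) : H :=
  open scoped Classical in if p.2 = 0 then 1 else g p.1

section Hom

variable {F : Type u} [Field F] [Fintype F] (hF : Fintype.card F = 2) {H : Type w} [Group H]
  (g : Fin 24 → H) (hsq : ∀ r, g r * g r = 1)
  (hrel : ∀ r s : Fin 24, s ≠ r → s.val ≠ chevD4.neg r.val →
    (chevD4.commTerms r.val s.val = [] ∧ g s * g r = g r * g s) ∨
    ∃ (c : Fin 24) (z : ℤ), (z = 1 ∨ z = -1) ∧ chevD4.commTerms r.val s.val = [(c.val, z, 1, 1)] ∧
      g s * g r * g s * g r = g c)

include hF hsq hrel in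
theorem rels_of_involutions :
    ∀ w ∈ chevD4.steinbergRels F, FreeGroup.lift (genVal (F := F) g) w = 1 := by
  classical
  obtain ⟨h2, hall⟩ := two_facts hF
  have hX : ∀ (r : ℕ) (hr : r < chevD4.nroots) (t : F),
      FreeGroup.lift (genVal g) (chevD4.stX r t) = if t = 0 then 1 else g ⟨r, hr⟩ := by
    intro r hr t
    rw [ChevalleyDatum.stX, dif_pos hr, FreeGroup.lift_apply_of, genVal]
    rfl
  have hinv : ∀ r, (g r)⁻¹ = g r := fun r => inv_eq_of_mul_eq_one_right (hsq r)
  rintro w ((⟨r, t, u, hr, rfl⟩ | ⟨r, s, t, u, hr, hs, h1, hn, rfl⟩) | ⟨r, a, b, hr, ha, hb, rfl⟩)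
  · rw [map_mul, map_mul, map_inv, hX r hr, hX r hr, hX r hr]
    rcases hall t with rfl | rfl <;> rcases hall u with rfl | rfl
    · simp
    · simp
    · simp
    · rw [one_add_one_eq_two, h2, if_pos rfl, inv_one, mul_one, if_neg one_ne_zero, hsq]
  · simp only [map_mul, map_inv, hX r hr, hX s hs, ChevalleyDatum.stWord, map_list_prod]
    rcases hrel ⟨r, hr⟩ ⟨s, hs⟩ (fun e => h1 (congrArg Fin.val e)) hn with
      ⟨he, hc⟩ | ⟨c, z, hz, he, hc⟩
    · rw [ChevalleyDatum.commWord, he]
      simp only [List.map_nil, List.prod_nil, inv_one, mul_one]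
      rcases hall t with rfl | rfl <;> rcases hall u with rfl | rfl <;> simp [hinv, hsq, hc, mul_assoc]

    · have hz1 : (z : F) = 1 := by
        rcases hz with rfl | rfl
        · exact Int.cast_one
        · rw [Int.cast_neg, Int.cast_one]; linear_combination -h2
      have hneg : ∀ x : F, -x = x := fun x => by linear_combination (-x) * h2
      rw [ChevalleyDatum.commWord, he]
      simp only [List.map_cons, List.map_nil, List.prod_cons, List.prod_nil, mul_one, hz1, one_mul,
        pow_one, hneg, hX c.val c.isLt]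
      rcases hall t with rfl | rfl <;> rcases hall u with rfl | rfl <;> simp [hinv, hsq, hc]
  · have ha1 : a = 1 := (hall a).resolve_left ha
    have hb1 : b = 1 := (hall b).resolve_left hb
    subst ha1 hb1
    have hneg : -(1 : F) = 1 := by linear_combination -h2
    have hn' : chevD4.neg r < chevD4.nroots := packD4.comm.toGood.neg_lt hr
    have e : FreeGroup.lift (genVal g) (chevD4.stH r (1 : F)) = 1 := by
      simp only [ChevalleyDatum.stH, ChevalleyDatum.stWord, ChevalleyDatum.hWord,
        ChevalleyDatum.nWord, List.map_append, List.map_cons, List.map_nil, List.prod_append,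
        List.prod_cons, List.prod_nil, mul_one, map_mul, hX r hr, hX _ hn', hneg, inv_one,
        if_neg one_ne_zero, mul_assoc]
      rw [← mul_assoc (g ⟨r, hr⟩) (g ⟨r, hr⟩), hsq, one_mul,
        ← mul_assoc (g ⟨chevD4.neg r, hn'⟩) (g ⟨chevD4.neg r, hn'⟩), hsq, one_mul, hsq]
    rw [mul_one, map_mul, map_mul, map_inv, e, one_mul, one_mul, inv_one]

/-- The homomorphism of involutions with the relations. -/
noncomputable def homOf : chevD4.SteinbergGroup F →* H :=
  PresentedGroup.toGroup (rels_of_involutions hF g hsq hrel)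

theorem homOf_gen {r : ℕ} (hr : r < chevD4.nroots) :
    homOf hF g hsq hrel ((stData packD4.comm).gen r (1 : F)) = g ⟨r, hr⟩ := by
  show homOf hF g hsq hrel (PresentedGroup.mk _ (chevD4.stX r (1 : F))) = _
  rw [ChevalleyDatum.stX, dif_pos hr]
  refine (PresentedGroup.toGroup.of _).trans ?_
  rw [genVal, if_neg one_ne_zero]
  rfl

end Hom

/-- Over two elements the presented group is the Chevalley group. -/
noncomputable def stEquiv {F : Type u} [Field F] [Fintype F] (hF : Fintype.card F = 2) :
    chevD4.SteinbergGroup F ≃* ↥(chevD4.group F) :=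
  MulEquiv.ofBijective (toGroup (stData packD4.comm) packD4.comm.toGood)
    ⟨(MonoidHom.ker_eq_bot_iff _).1 (by
        classical
        obtain ⟨T⟩ := packD4.model
        have hS := packD4.dok
        set S := stData (F := F) packD4.comm
        set B := packD4.base S
        have htop : Subgroup.closure {g | ∃ r t, r < chevD4.nroots ∧ g = B.y r t} = ⊤ := closure_pre S
        have hmul := B.hh_mul hS T htop (nbrOK_of_mem (by simp))
        have hsub : Subsingleton Fˣ := Fintype.card_le_one_iff_subsingleton.1 (by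
          rw [Fintype.card_units, hF])
        rw [ker_toGroup, eq_bot_iff]
        intro g hg
        obtain ⟨c, rfl⟩ := B.H_le_range hS T htop hmul (B.ker_le_H hS T htop hg)
        rw [Subgroup.mem_bot, show c = 1 from funext fun i => Subsingleton.elim _ _, map_one]),
      toGroup_surjective _ _⟩

/-- The root element at `1`. -/
noncomputable def xroot (F : Type u) [Field F] (r : Fin 24) : ↥(chevD4.group F) :=
  ⟨xg chevD4 F r.val 1, xg_mem_group packD4.comm.toGood r.isLt 1⟩

/-- The action on the lines. -/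
noncomputable def lineAct {F : Type u} [Field F] [Fintype F] (hF : Fintype.card F = 2) (j : Fin 2) :
    ↥(chevD4.group F) →* Equiv.Perm (Fin 120) :=
  (homOf hF (perm j)
    (fun r => Equiv.ext fun i => Fin.ext ((perm_facts j r.isLt).1 i i.isLt).2)
    (fun r s h1 hn => by
      rcases (perm_facts j r.isLt).2 s.val s.isLt (fun e => h1 (Fin.ext e)) hn with
        ⟨he, hc⟩ | ⟨c, hone, hc⟩
      · exact Or.inl ⟨he, Equiv.ext fun i => Fin.ext (hc i i.isLt)⟩
      · obtain ⟨-, -, hc', -, -, z, hz, he⟩ := oneB_spec hone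
        exact Or.inr ⟨⟨c, hc'⟩, z, hz, he, Equiv.ext fun i => Fin.ext (hc i i.isLt)⟩)).comp
    (stEquiv hF).symm.toMonoidHom

theorem lineAct_xroot {F : Type u} [Field F] [Fintype F] (hF : Fintype.card F = 2) (j : Fin 2)
    (r : Fin 24) : lineAct hF j (xroot F r) = perm j r := by
  have e : (stEquiv hF).symm (xroot F r) = (stData packD4.comm).gen r.val (1 : F) := by
    rw [MulEquiv.symm_apply_eq]
    exact Subtype.ext ((stData packD4.comm).π_gen r.isLt 1).symm
  rw [lineAct, MonoidHom.comp_apply]
  show homOf hF (perm j) _ _ ((stEquiv hF).symm (xroot F r)) = _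
  rw [e, homOf_gen hF _ _ _ r.isLt]

end Cfsg.Agent.O8Two50
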