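import Cfsg.Agent.O8Two50.CoverTable
import Cfsg.Agent.O8Two50.CoverPerm
import Mathlib.Data.ZMod.Basic
import Mathlib.Data.Matrix.Mul

/-!
The lifted root elements as matrices modulo three (helper50).
-/

set_option autoImplicit false

namespace Cfsg.Agent.O8Two50

open Matrix
open Cfsg.Agent.ChevCore

/-- An entry of a packed list of two-digit numbers. -/
def entN (P i : ℕ) : ℕ := (P >>> (2 * i)) % 4

/-- The packed matrix. -/
def matP (j : Fin 2) (r : ℕ) : ℕ := matTab.getD (tw j r) 0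

/-- A packed root. -/
def lineP (i : ℕ) : ℕ := lineTab.getD i 0

/-- A sum of eight terms. -/
def s8 (f : ℕ → ℕ) : ℕ := f 0 + f 1 + f 2 + f 3 + f 4 + f 5 + f 6 + f 7

/-- An entry of a product. -/
def mulN (P Q a b : ℕ) : ℕ := s8 fun c => entN P (8 * a + c) * entN Q (8 * c + b)

/-- An entry of an image. -/
def imgN (P V a : ℕ) : ℕ := s8 fun c => entN P (8 * a + c) * entN V c

/-- Squares, and images of roots. -/
noncomputable def matB : Bool :=
  kallUpTo 2 fun j => kallUpTo 24 fun r => forceN (matP (Fin.ofNat 2 j) r) fun P =>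
    (kallUpTo 8 fun a => kallUpTo 8 fun b =>
      Nat.beq (mulN P P a b % 3) (bif Nat.beq a b then 1 else 0)) &&
    kallUpTo 120 fun i => forceN (lineP (pImg (Fin.ofNat 2 j) r i)) fun W =>
      forceN (lineP i) fun V =>
        (kallUpTo 8 fun a => Nat.beq (imgN P V a % 3) (entN W a % 3)) ||
          kallUpTo 8 fun a => Nat.beq (imgN P V a % 3) (2 * entN W a % 3)

theorem matB_true : matB = true := by decide +kernel

/-- The first eight roots are coordinate vectors, and every coordinate occurs with the first one. -/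
noncomputable def frameB : Bool :=
  (kallUpTo 8 fun i => kallUpTo 8 fun a =>
    Nat.beq (entN (lineP i) a % 3) (bif Nat.beq a i then 2 else 0)) &&
  kallUpTo 8 fun k => kanyUpTo 120 fun i =>
    !(Nat.beq (entN (lineP i) 0 % 3) 0) && !(Nat.beq (entN (lineP i) k % 3) 0)

theorem frameB_true : frameB = true := by decide +kernel

/-- The four commutators. -/
noncomputable def signB : Bool :=
  kallUpTo 8 fun a => kallUpTo 8 fun b =>
    Nat.beq (mulN (matP 0 0) (matP 0 5) a b % 3) (mulN (matP 0 5) (matP 0 0) a b % 3) &&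
    Nat.beq (mulN (matP 0 0) (matP 0 10) a b % 3) (2 * mulN (matP 0 10) (matP 0 0) a b % 3) &&
    Nat.beq (mulN (matP 1 0) (matP 1 5) a b % 3) (2 * mulN (matP 1 5) (matP 1 0) a b % 3) &&
    Nat.beq (mulN (matP 1 0) (matP 1 10) a b % 3) (mulN (matP 1 10) (matP 1 0) a b % 3)

theorem signB_true : signB = true := by decide +kernel

/-- The matrix. -/
def mtx (j : Fin 2) (r : Fin 24) : Matrix (Fin 8) (Fin 8) (ZMod 3) :=
  fun a b => (entN (matP j r) (8 * a + b) : ZMod 3)

/-- The root. -/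
def lineVec (i : Fin 120) : Fin 8 → ZMod 3 := fun a => (entN (lineP i) a : ZMod 3)

theorem mulN_cast (P Q : ℕ) (a b : Fin 8) :
    ((mulN P Q a b : ℕ) : ZMod 3) =
      ∑ c : Fin 8, (entN P (8 * a + c) : ZMod 3) * (entN Q (8 * c + b) : ZMod 3) := by
  simp [mulN, s8, Fin.sum_univ_eight, Nat.cast_add, Nat.cast_mul]

theorem cast_of_mod {a b : ℕ} (h : a % 3 = b % 3) : (a : ZMod 3) = (b : ZMod 3) :=
  (ZMod.natCast_eq_natCast_iff' _ _ _).2 h

theorem two_cast (b : ℕ) : ((2 * b : ℕ) : ZMod 3) = -(b : ZMod 3) := by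
  rw [Nat.cast_mul, show ((2 : ℕ) : ZMod 3) = -1 by decide, neg_one_mul]

theorem mtx_mul_apply (i j : Fin 2) (r s : Fin 24) (a b : Fin 8) :
    (mtx i r * mtx j s) a b = ((mulN (matP i r) (matP j s) a b : ℕ) : ZMod 3) := by
  rw [mulN_cast]; rfl

theorem mtx_mul_self (j : Fin 2) (r : Fin 24) : mtx j r * mtx j r = 1 := by
  have h := matB_true
  simp only [matB, kallUpTo_iff, forceN_eq, Bool.and_eq_true, Nat.beq_eq] at h
  have h1 := (h j.val j.isLt r.val r.isLt).1
  rw [show Fin.ofNat 2 j.val = j from Fin.ext (Nat.mod_eq_of_lt j.isLt)] at h1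
  ext a b
  have h2 := h1 a.val a.isLt b.val b.isLt
  rw [mtx_mul_apply, ← ZMod.natCast_mod, h2, Matrix.one_apply]
  by_cases e : a = b
  · subst e; simp
  · simp [e, show Nat.beq a.val b.val = false by
      rw [Bool.eq_false_iff]; exact fun h => e (Fin.ext (Nat.eq_of_beq_eq_true h))]

theorem mtx_line (j : Fin 2) (r : Fin 24) (i : Fin 120) :
    ∃ c : ZMod 3, (c = 1 ∨ c = -1) ∧ mtx j r *ᵥ lineVec i = c • lineVec (perm j r i) := by
  have h := matB_true
  simp only [matB, kallUpTo_iff, forceN_eq, Bool.and_eq_true, Bool.or_eq_true, Nat.beq_eq] at h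
  have h1 := (h j.val j.isLt r.val r.isLt).2 i.val i.isLt
  rw [show Fin.ofNat 2 j.val = j from Fin.ext (Nat.mod_eq_of_lt j.isLt)] at h1
  have himg : ∀ a : Fin 8, (mtx j r *ᵥ lineVec i) a =
      ((imgN (matP j r) (lineP i) a : ℕ) : ZMod 3) := fun a => by
    simp [Matrix.mulVec, dotProduct, mtx, lineVec, imgN, s8, Fin.sum_univ_eight]
  rcases h1 with h1 | h1
  · refine ⟨1, Or.inl rfl, funext fun a => ?_⟩
    rw [one_smul, himg, cast_of_mod (h1 a.val a.isLt)]
    rfl
  · refine ⟨-1, Or.inr rfl, funext fun a => ?_⟩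
    rw [himg, cast_of_mod (h1 a.val a.isLt), two_cast, Pi.smul_apply, neg_one_smul]
    rfl

theorem lineVec_coord (i : Fin 8) :
    lineVec (Fin.castLE (by norm_num) i) = -Pi.single i 1 := by
  have h := frameB_true
  simp only [frameB, kallUpTo_iff, Bool.and_eq_true, Nat.beq_eq] at h
  funext a
  have h1 := h.1 i.val i.isLt a.val a.isLt
  show ((entN (lineP i.val) a.val : ℕ) : ZMod 3) = _
  rw [← ZMod.natCast_mod, h1]
  by_cases e : a = i
  · subst e; simp; decide
  · simp [e, show Nat.beq a.val i.val = false by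
      rw [Bool.eq_false_iff]; exact fun h => e (Fin.ext (Nat.eq_of_beq_eq_true h))]

theorem exists_line_pair (k : Fin 8) : ∃ i : Fin 120, lineVec i 0 ≠ 0 ∧ lineVec i k ≠ 0 := by
  have h := frameB_true
  simp only [frameB, kallUpTo_iff, kanyUpTo_iff, Bool.and_eq_true, Bool.not_eq_true',
    ← Bool.not_eq_true, Nat.beq_eq] at h
  obtain ⟨i, hi, h0, hk⟩ := h.2 k.val k.isLt
  refine ⟨⟨i, hi⟩, fun e => h0 ?_, fun e => hk ?_⟩
  · exact Nat.mod_eq_zero_of_dvd ((ZMod.natCast_eq_zero_iff _ _).1 e) 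
  · exact Nat.mod_eq_zero_of_dvd ((ZMod.natCast_eq_zero_iff _ _).1 e)

theorem mtx_signs :
    mtx 0 0 * mtx 0 5 = mtx 0 5 * mtx 0 0 ∧ mtx 0 0 * mtx 0 10 = -(mtx 0 10 * mtx 0 0) ∧
      mtx 1 0 * mtx 1 5 = -(mtx 1 5 * mtx 1 0) ∧ mtx 1 0 * mtx 1 10 = mtx 1 10 * mtx 1 0 := by
  have h := signB_true
  simp only [signB, kallUpTo_iff, Bool.and_eq_true, Nat.beq_eq] at h
  refine ⟨?_, ?_, ?_, ?_⟩ <;> ext a b <;>
    simp only [Matrix.neg_apply, mtx_mul_apply]
  · exact cast_of_mod (h a.val a.isLt b.val b.isLt).1.1.1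
  · rw [← two_cast]; exact cast_of_mod (h a.val a.isLt b.val b.isLt).1.1.2
  · rw [← two_cast]; exact cast_of_mod (h a.val a.isLt b.val b.isLt).1.2
  · exact cast_of_mod (h a.val a.isLt b.val b.isLt).2

end Cfsg.Agent.O8Two50
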