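import Cfsg.Agent.KnownSimple.Steinberg.Gen.Three

/-!
Deriving commutators and brackets of lifted root elements over two elements from a few of them (helper50).
-/

set_option autoImplicit false

namespace Cfsg.Agent.O8Two50

open Cfsg.Lie Cfsg.Agent.ChevCore Cfsg.Agent.ChevGroup
open Cfsg.Agent.KnownSimple.Steinberg Cfsg.Agent.KnownSimple.Steinberg.Gen
open scoped commutatorElement

/-- One line of a derivation. -/
inductive Step where
  | wit (r s a b : ℕ)
  | dec (s : ℕ)
  | step (r s a b w : ℕ)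
  | move (p q u a w s : ℕ)

/-- A derived fact. -/
abbrev Key := Bool × ℕ × ℕ × ℕ

/-- The key of a commuting pair. -/
def kC (r s : ℕ) : Key := (false, min r s, max r s, 0)

/-- The key of a bracket. -/
def kB (a b s : ℕ) : Key := (true, min a b, max a b, s)

/-- Membership. -/
def memKey (L : List Key) (k : Key) : Bool := L.any fun x => x == k

theorem memKey_iff {L : List Key} {k : Key} : memKey L k = true ↔ k ∈ L := by
  simp [memKey, List.any_eq_true]

/-- The root elements commute. -/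
noncomputable def comB (D : ChevalleyDatum) (A : Acc) (r s : ℕ) : Bool :=
  Nat.blt r D.nroots && Nat.blt s D.nroots && !(Nat.beq s r) && !(Nat.beq s (A.negf r)) &&
    (commW A r s).isEmpty

/-- The bracket has one linear term. -/
noncomputable def oneB (D : ChevalleyDatum) (A : Acc) (a b s : ℕ) : Bool :=
  Nat.blt a D.nroots && Nat.blt b D.nroots && Nat.blt s D.nroots && !(Nat.beq b a) &&
    !(Nat.beq b (A.negf a)) && Nat.beq (commW A a b).length 1 && Nat.beq (headW A a b).1 s &&
    zEq ((headW A a b).2.1 * (headW A a b).2.1) 1 && Nat.beq (headW A a b).2.2.1 1 &&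
    Nat.beq (headW A a b).2.2.2 1

/-- A bracket whose first lift commutes with it. -/
noncomputable def invB (D : ChevalleyDatum) (A : Acc) (K : List Key) (a b s : ℕ) : Bool :=
  oneB D A a b s && memKey K (kC a s)

/-- The condition of a line. -/
noncomputable def okStep (D : ChevalleyDatum) (A : Acc) (dt : List (ℕ × ℕ)) (K : List Key) :
    Step → Bool
  | .wit r s a b => comB D A r s && oneB D A a b s && comB D A r a && comB D A r b
  | .dec s => invB D A K (dt.getD s (0, 0)).1 (dt.getD s (0, 0)).2 s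
  | .step r s a b w =>
      oneB D A a b s && oneB D A r b w && comB D A r s && comB D A r a && comB D A a w &&
        comB D A w s && memKey K (kC w s) && (memKey K (kC r s) || memKey K (kC a w))
  | .move p q u a w s =>
      oneB D A p q a && oneB D A u q w && invB D A K u a s && invB D A K p w s && comB D A p u &&
        comB D A w a &&
        ((memKey K (kB u a s) && memKey K (kB p w s)) || (memKey K (kC w a) && memKey K (kB p w s)) ||
          (memKey K (kC w a) && memKey K (kB u a s)))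

/-- The facts of a line. -/
def addStep (dt : List (ℕ × ℕ)) : Step → List Key → List Key
  | .wit r s _ _, K => kC r s :: K
  | .dec s, K => kB (dt.getD s (0, 0)).1 (dt.getD s (0, 0)).2 s :: K
  | .step r s a _ w, K => kC r s :: kC a w :: K
  | .move p _ u a w s, K => kB u a s :: kB p w s :: kC w a :: K

/-- The derivation, `none` on a bad line; the decomposition lines record the chosen bracket. -/
noncomputable def run (D : ChevalleyDatum) (A : Acc) (dt : List (ℕ × ℕ)) :
    List Step → List Key → Option (List Key)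
  | [], K => some K
  | x :: xs, K =>
      bif okStep D A dt K x then
        run D A dt xs (addStep dt x K)
      else none

/-- Everything is derived. -/
noncomputable def fullB (D : ChevalleyDatum) (A : Acc) (dt : List (ℕ × ℕ)) (base : List (ℕ × ℕ))
    (L : List Step) : Bool :=
  kall base (fun p => comB D A p.1 p.2) &&
  match run D A dt L (base.map fun p => kC p.1 p.2) with
  | none => false
  | some K => kallUpTo D.nroots fun r => kallUpTo D.nroots fun s =>
      Nat.beq s r || Nat.beq s (A.negf r) ||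
        ((commW A r s).isEmpty && memKey K (kC r s)) ||
          (oneB D A r s (headW A r s).1 && memKey K (kB r s (headW A r s).1))

section Sound

variable {D : ChevalleyDatum} {F : Type*} [Field F] {Γ : Type*} [Group Γ]

/-- The bracket of two lifts at `1`. -/
def br (E : CExt D F Γ) (a b : ℕ) : Γ := ⁅E.ℓ a 1, E.ℓ b 1⁆

/-- The chosen bracket. -/
def y0 (E : CExt D F Γ) (dt : List (ℕ × ℕ)) (s : ℕ) : Γ :=
  br E (dt.getD s (0, 0)).1 (dt.getD s (0, 0)).2

/-- The meaning of a key. -/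
def Sound (E : CExt D F Γ) (dt : List (ℕ × ℕ)) : Key → Prop
  | (false, r, s, _) => Commute (E.ℓ r 1) (E.ℓ s 1)
  | (true, a, b, s) => br E a b = y0 E dt s ∧ br E b a = y0 E dt s

variable {E : CExt D F Γ} {dt : List (ℕ × ℕ)}

theorem sound_kC_iff {r s : ℕ} : Sound E dt (kC r s) ↔ Commute (E.ℓ r 1) (E.ℓ s 1) := by
  rcases le_total r s with h | h
  · simp [kC, Sound, h]
  · simp [kC, Sound, h]
    exact ⟨Commute.symm, Commute.symm⟩

theorem sound_kB_iff {a b s : ℕ} :
    Sound E dt (kB a b s) ↔ br E a b = y0 E dt s ∧ br E b a = y0 E dt s := by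
  rcases le_total a b with h | h
  · simp [kB, Sound, h]
  · simp [kB, Sound, h]
    exact and_comm

theorem comB_spec {r s : ℕ} (h : comB D (std D) r s = true) :
    r < D.nroots ∧ s < D.nroots ∧ s ≠ r ∧ s ≠ D.neg r ∧ D.commTerms r s = [] := by
  simp only [comB, Bool.and_eq_true, Nat.blt_eq, Bool.not_eq_true', std_negf, commW_std,
    List.isEmpty_iff, ← Bool.not_eq_true, Nat.beq_eq] at h
  exact ⟨h.1.1.1.1, h.1.1.1.2, h.1.1.2, h.1.2, h.2⟩

theorem oneB_spec {a b s : ℕ} (h : oneB D (std D) a b s = true) :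
    a < D.nroots ∧ b < D.nroots ∧ s < D.nroots ∧ b ≠ a ∧ b ≠ D.neg a ∧
      ∃ z : ℤ, (z = 1 ∨ z = -1) ∧ D.commTerms a b = [(s, z, 1, 1)] := by
  simp only [oneB, headW, Bool.and_eq_true, Nat.blt_eq, Bool.not_eq_true', std_negf, commW_std,
    zEq_iff, ← Bool.not_eq_true, Nat.beq_eq] at h
  obtain ⟨⟨⟨⟨⟨⟨⟨⟨⟨ha, hb⟩, hs⟩, hba⟩, hbna⟩, hlen⟩, hroot⟩, hz⟩, hi⟩, hj⟩ := h
  obtain ⟨c, e⟩ := List.length_eq_one_iff.1 hlen
  obtain ⟨s', z, i, j⟩ := c
  simp only [e, List.headD_cons] at hroot hz hi hj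
  subst hroot hi hj
  exact ⟨ha, hb, hs, hba, hbna, z, Int.eq_one_or_neg_one_of_mul_eq_one hz, e⟩

theorem xg_comm_of_comB (hC : CommGood D) {r s : ℕ} (h : comB D (std D) r s = true) (u v : F) :
    Commute (xg D F r u) (xg D F s v) :=
  have h' := comB_spec h
  commute_xg hC h'.1 h'.2.1 (Or.inr ⟨h'.2.2.2.1, h'.2.2.2.2⟩) u v

variable (hC : CommGood D) (h2 : (2 : F) = 0) (hall : ∀ x : F, x = 0 ∨ x = 1)
include hC

omit hC in
include hall in
theorem commute_all (hD : Good D) {r s : ℕ} (hr : r < D.nroots) (hs : s < D.nroots)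
    (h : Commute (E.ℓ r 1) (E.ℓ s 1)) (u v : F) : Commute (E.ℓ r u) (E.ℓ s v) := by
  rcases hall u with rfl | rfl
  · exact E.π_eq_zero_commute hr hD (E.π_ℓ r hr 0) _
  rcases hall v with rfl | rfl
  · exact (E.π_eq_zero_commute hs hD (E.π_ℓ s hs 0) _).symm
  · exact h

include h2 in
theorem π_br {a b s : ℕ} (h : oneB D (std D) a b s = true) :
    E.π (br E a b) = xg D F s 1 := by
  obtain ⟨ha, hb, -, hba, hbna, z, hz, e⟩ := oneB_spec h
  rw [br, π_bracket_single hC E ha hb hba hbna e, mul_one, mul_one]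
  rcases hz with rfl | rfl
  · rw [Int.cast_one]
  · rw [Int.cast_neg, Int.cast_one]
    congr 1
    linear_combination -h2

include h2 in
theorem br_symm {a b s : ℕ} (h : oneB D (std D) a b s = true)
    (hc : Commute (E.ℓ a 1) (E.ℓ s 1)) : br E b a = br E a b := by
  have hD := hC.toGood
  obtain ⟨ha, hb, hs, -⟩ := oneB_spec h
  have hc' : Commute (E.ℓ a 1) (br E a b) :=
    E.commute_congr rfl (by rw [π_br hC h2 h, E.π_ℓ s hs]) hc
  have h1 : ⁅E.ℓ a 1 * E.ℓ a 1, E.ℓ b 1⁆ = br E a b * br E a b := by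
    calc ⁅E.ℓ a 1 * E.ℓ a 1, E.ℓ b 1⁆
        = E.ℓ a 1 * br E a b * (E.ℓ a 1)⁻¹ * br E a b := by
          simp only [br, commutatorElement_def]; group
      _ = _ := by rw [hc'.eq, mul_inv_cancel_right]
  have h3 : ⁅E.ℓ a 1 * E.ℓ a 1, E.ℓ b 1⁆ = 1 := by
    rw [commutatorElement_eq_one_iff_commute]
    refine E.π_eq_zero_commute ha hD ?_ _
    rw [map_mul, E.π_ℓ a ha, ← hD.xg_add, one_add_one_eq_two, h2]
  rw [h3] at h1
  rw [br, ← commutatorElement_inv]
  exact inv_eq_of_mul_eq_one_right h1.symm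

include h2 in
theorem br_move {p q u a w s : ℕ} (hpq : oneB D (std D) p q a = true)
    (huq : oneB D (std D) u q w = true) (hua : oneB D (std D) u a s = true)
    (hpw : oneB D (std D) p w s = true) (hpu : comB D (std D) p u = true) :
    br E u a = br E p w * ⁅E.ℓ w 1, E.ℓ a 1⁆ := by
  have hD := hC.toGood
  obtain ⟨hp, hq, ha, -⟩ := oneB_spec hpq
  obtain ⟨hu, -, hw, -⟩ := oneB_spec huq
  set P := E.ℓ p 1
  set Q := E.ℓ q 1
  set U := E.ℓ u 1
  set W := E.ℓ w 1
  have hA : E.π ⁅P, Q⁆ = E.π (E.ℓ a 1) := (π_br hC h2 hpq).trans (E.π_ℓ a ha 1).symm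
  have hW : E.π ⁅U, Q⁆ = E.π W := (π_br hC h2 huq).trans (E.π_ℓ w hw 1).symm
  have hUP : E.π (U * P * U⁻¹) = E.π P := by
    rw [map_mul, map_mul, map_inv, E.π_ℓ p hp, E.π_ℓ u hu, (xg_comm_of_comB hC hpu 1 1).symm.eq,
      mul_inv_cancel_right]
  have hUQ : E.π (U * Q * U⁻¹) = E.π (W * Q) := by
    rw [map_mul E.π W, ← hW, ← map_mul]
    congr 1
    simp only [commutatorElement_def]
    group
  have h := E.comm_congr hUP hUQ
  rw [show ⁅U * P * U⁻¹, U * Q * U⁻¹⁆ = ⁅U, ⁅P, Q⁆⁆ * ⁅P, Q⁆ by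
      simp only [commutatorElement_def]; group,
    show ⁅P, W * Q⁆ = ⁅P, W⁆ * ⁅W, ⁅P, Q⁆⁆ * ⁅P, Q⁆ by
      simp only [commutatorElement_def]; group] at h
  have h' := mul_right_cancel h
  rwa [E.comm_congr rfl hA, E.comm_congr rfl hA] at h'

include h2 hall in
theorem sound_step {K : List Key} (hK : ∀ k ∈ K, Sound E dt k) {x : Step}
    (h : okStep D (std D) dt K x = true) :
    ∀ k ∈ addStep dt x K, Sound E dt k := by
  have hD := hC.toGood
  cases x with
  | wit r s a b =>
    simp only [okStep, Bool.and_eq_true] at h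
    obtain ⟨⟨⟨hrs, hab⟩, hra⟩, hrb⟩ := h
    obtain ⟨hr, hs, -⟩ := comB_spec hrs
    obtain ⟨ha, hb, -, hba, hbna, z, hz, e⟩ := oneB_spec hab
    intro k hk
    rcases List.mem_cons.1 hk with rfl | hk
    · exact sound_kC_iff.2 (commute_of_witness hC hr hs ha hb hba hbna (xg_comm_of_comB hC hra)
        (xg_comm_of_comB hC hrb) (pre := []) (post := []) (by rw [e]; rfl) hz (Or.inl rfl)
        (fun c hc => by simp at hc) 1 1)
    · exact hK k hk
  | dec s =>
    simp only [okStep, invB, Bool.and_eq_true, memKey_iff] at h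
    intro k hk
    rcases List.mem_cons.1 hk with rfl | hk
    · exact sound_kB_iff.2 ⟨rfl, br_symm hC h2 h.1 (sound_kC_iff.1 (hK _ h.2))⟩
    · exact hK k hk
  | step r s a b w =>
    simp only [okStep, Bool.and_eq_true, Bool.or_eq_true, memKey_iff] at h
    obtain ⟨⟨⟨⟨⟨⟨⟨hab, hrb⟩, hrs⟩, hra⟩, haw⟩, hws⟩, hk0⟩, hor⟩ := h
    obtain ⟨hr, hs, -⟩ := comB_spec hrs
    obtain ⟨ha, hb, -, hba, hbna, z₁, hz₁, e₁⟩ := oneB_spec hab
    obtain ⟨-, -, hw, hbr, hbnr, z₂, hz₂, e₂⟩ := oneB_spec hrb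
    have hc := commute_all hall hD hw hs (sound_kC_iff.1 (hK _ hk0))
    have key := bracket_step hC E hr hs ha hb hw hba hbna hbr hbnr (xg_comm_of_comB hC hrs)
      (xg_comm_of_comB hC hra) (xg_comm_of_comB hC haw) hz₁ hz₂ e₁ e₂ hc
    have hiff : Commute (E.ℓ r 1) (E.ℓ s 1) ↔ Commute (E.ℓ a 1) (E.ℓ w 1) := by
      rw [← commutatorElement_eq_one_iff_commute, ← commutatorElement_eq_one_iff_commute, key]
      generalize (⁅E.ℓ a 1, E.ℓ w 1⁆ : Γ) = c
      rcases hz₁ with rfl | rfl <;> rcases hz₂ with rfl | rfl <;> simp [zpow_neg]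
    intro k hk
    rcases List.mem_cons.1 hk with rfl | hk
    · refine sound_kC_iff.2 (hor.elim (fun h => sound_kC_iff.1 (hK _ h)) fun h => ?_)
      exact hiff.2 (sound_kC_iff.1 (hK _ h))
    rcases List.mem_cons.1 hk with rfl | hk
    · refine sound_kC_iff.2 (hor.elim (fun h => ?_) fun h => sound_kC_iff.1 (hK _ h))
      exact hiff.1 (sound_kC_iff.1 (hK _ h))
    · exact hK k hk
  | move p q u a w s =>
    simp only [okStep, invB, Bool.and_eq_true, Bool.or_eq_true, memKey_iff] at h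
    obtain ⟨⟨⟨⟨⟨⟨hpq, huq⟩, hua, hcu⟩, hpw, hcp⟩, hpu⟩, -⟩, hor⟩ := h
    have key := br_move (E := E) hC h2 hpq huq hua hpw hpu
    have s1 := br_symm hC h2 hua (sound_kC_iff.1 (hK _ hcu))
    have s2 := br_symm hC h2 hpw (sound_kC_iff.1 (hK _ hcp))
    have res : br E u a = y0 E dt s ∧ br E p w = y0 E dt s ∧ ⁅E.ℓ w 1, E.ℓ a 1⁆ = 1 := by
      rcases hor with (⟨h1, h3⟩ | ⟨h1, h3⟩) | ⟨h1, h3⟩
      · have e1 := (sound_kB_iff.1 (hK _ h1)).1
        have e3 := (sound_kB_iff.1 (hK _ h3)).1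
        rw [e1, e3] at key
        exact ⟨e1, e3, left_eq_mul.1 key⟩
      · have e1 := commutatorElement_eq_one_iff_commute.2 (sound_kC_iff.1 (hK _ h1))
        have e3 := (sound_kB_iff.1 (hK _ h3)).1
        rw [e1, e3, mul_one] at key
        exact ⟨key, e3, e1⟩
      · have e1 := commutatorElement_eq_one_iff_commute.2 (sound_kC_iff.1 (hK _ h1))
        have e3 := (sound_kB_iff.1 (hK _ h3)).1
        rw [e1, e3, mul_one] at key
        exact ⟨e3, key.symm, e1⟩
    intro k hk
    rcases List.mem_cons.1 hk with rfl | hk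
    · exact sound_kB_iff.2 ⟨res.1, s1.trans res.1⟩
    rcases List.mem_cons.1 hk with rfl | hk
    · exact sound_kB_iff.2 ⟨res.2.1, s2.trans res.2.1⟩
    rcases List.mem_cons.1 hk with rfl | hk
    · exact sound_kC_iff.2 (commutatorElement_eq_one_iff_commute.1 res.2.2)
    · exact hK k hk

include h2 hall in
theorem sound_run : ∀ (L : List Step) (K : List Key), (∀ k ∈ K, Sound E dt k) →
    ∀ K', run D (std D) dt L K = some K' → ∀ k ∈ K', Sound E dt k
  | [], K, hK, K', e => by
    simp only [run, Option.some.injEq] at e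
    exact e ▸ hK
  | x :: xs, K, hK, K', e => by
    rw [run] at e
    cases h : okStep D (std D) dt K x with
    | false => rw [h] at e; exact absurd e (by simp)
    | true =>
      rw [h] at e
      exact sound_run xs _ (sound_step hC h2 hall hK h) K' e

include h2 hall in
/-- If the base pairs commute, all pairs commute and all brackets agree. -/
theorem of_fullB {base : List (ℕ × ℕ)} {L : List Step} (h : fullB D (std D) dt base L = true)
    (hb : ∀ p ∈ base, Commute (E.ℓ p.1 1) (E.ℓ p.2 1)) {r s : ℕ} (hr : r < D.nroots)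
    (hs : s < D.nroots) (h1 : s ≠ r) (hn : s ≠ D.neg r) :
    (D.commTerms r s = [] ∧ Commute (E.ℓ r 1) (E.ℓ s 1)) ∨
      ∃ (c : ℕ) (z : ℤ), c < D.nroots ∧ (z = 1 ∨ z = -1) ∧ D.commTerms r s = [(c, z, 1, 1)] ∧
        br E s r = y0 E dt c ∧ E.π (y0 E dt c) = xg D F c 1 := by
  simp only [fullB, Bool.and_eq_true] at h
  obtain ⟨-, h⟩ := h
  cases e : run D (std D) dt L (base.map fun p => kC p.1 p.2) with
  | none => rw [e] at h; exact absurd h (by simp)
  | some K =>
    rw [e] at h
    simp only [kallUpTo_iff, Bool.or_eq_true, Bool.and_eq_true, std_negf, commW_std,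
      List.isEmpty_iff, Nat.beq_eq, memKey_iff] at h
    have hK := sound_run hC h2 hall L _ (fun k hk => by
      obtain ⟨p, hp, rfl⟩ := List.mem_map.1 hk
      exact sound_kC_iff.2 (hb p hp)) K e
    rcases h r hr s hs with ((h' | h') | ⟨h', hk⟩) | ⟨h', hk⟩
    · exact absurd h' h1
    · exact absurd h' hn
    · exact Or.inl ⟨h', sound_kC_iff.1 (hK _ hk)⟩
    · obtain ⟨-, -, hc, -, -, z, hz, e'⟩ := oneB_spec h'
      have hsd := sound_kB_iff.1 (hK _ hk)
      refine Or.inr ⟨_, z, hc, hz, e', hsd.2, ?_⟩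
      rw [← hsd.1]
      exact π_br hC h2 h'

end Sound

end Cfsg.Agent.O8Two50
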