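import Cfsg.Agent.O8Two50.Cover
import Cfsg.Agent.SpMult50.SixMain
import Cfsg.Agent.Lib.UnitaryOrthogonal.AdjointIsoD4
import Cfsg.Agent.Lib.Schur.Basic
import Mathlib.GroupTheory.SpecificGroups.KleinFour

/-!
The Schur multiplier of `PΩ⁺_8(2)` is a four-group (helper50).
-/

set_option autoImplicit false

namespace Cfsg.Agent.O8Two50

open Cfsg Cfsg.Lie

universe u w

theorem klein_of {H : Type w} [Group H] (h4 : Nat.card H = 4) (he : ∀ x : H, x * x = 1) :
    IsKleinFour H := by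
  haveI : Finite H := Nat.finite_of_card_ne_zero (by omega)
  haveI : Nontrivial H := Finite.one_lt_card_iff_nontrivial.1 (by omega)
  refine ⟨h4, Nat.eq_of_dvd_of_div_eq_one ?_ ?_⟩
  · exact Monoid.exponent_dvd_of_forall_pow_eq_one fun x => by rw [pow_two, he]
  · rcases (Nat.dvd_prime Nat.prime_two).1
      (Monoid.exponent_dvd_of_forall_pow_eq_one fun x : H => by rw [pow_two, he]) with h | h
    · exact absurd (Monoid.exp_eq_one_iff.1 h) (not_subsingleton H)
    · rw [h]

/-- **The multiplier of `PΩ⁺_8(2)`.** -/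
theorem hasSchurMultiplier_POmega {F : Type u} [Field F] [Fintype F] (hF : Fintype.card F = 2) :
    Cfsg.HasSchurMultiplier (Cfsg.POmega F (Cfsg.quadFormPlus 4 F))
      (Multiplicative (ZMod 2 × ZMod 2)) := by
  classical
  haveI : Finite ↥(cov F) := inferInstance
  obtain ⟨e⟩ := Cfsg.Agent.UnitaryOrthogonal.Adjoint.chevD4_equiv (F := F)
  haveI : Finite (Cfsg.POmega F (Cfsg.quadFormPlus 4 F)) := Finite.of_equiv _ e.toEquiv
  set σ₁ := e.toMonoidHom.comp (covPi F) with hσ₁
  have h1 : Cfsg.IsStemExtension σ₁ := SpMult50.isStemExtension_comp_equiv e (covPi_stem hF)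
  obtain ⟨hc, hexp⟩ := covPi_ker_klein hF
  have hk : σ₁.ker = (covPi F).ker := by
    ext x
    simp [hσ₁, MonoidHom.mem_ker]
  haveI := klein_of hc hexp
  haveI : IsKleinFour σ₁.ker := hk ▸ this
  haveI : IsKleinFour (Multiplicative (ZMod 2 × ZMod 2)) := by infer_instance
  obtain ⟨i⟩ := IsKleinFour.nonempty_mulEquiv (G₁ := σ₁.ker) (G₂ := Multiplicative (ZMod 2 × ZMod 2))
  refine Cfsg.Agent.Schur.hasSchurMultiplier_of_card_le σ₁ h1 i fun Γ _ _ σ hσ => ?_
  rw [show Nat.card (Multiplicative (ZMod 2 × ZMod 2)) = 4 by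
    rw [Nat.card_congr Multiplicative.toAdd, Nat.card_prod, Nat.card_zmod],
    ← SpMult50.card_ker_comp_equiv e.symm σ]
  exact card_ker_le_four hF _ (SpMult50.isStemExtension_comp_equiv e.symm hσ)

end Cfsg.Agent.O8Two50
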